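import Cfsg.Agent.H113.PSU.Rank3_m3
import Cfsg.Agent.H625.SylConst
import Cfsg.Agent.H843.IMC.RowsA
import Cfsg.Agent.H94.IMCPerm_m3
import Cfsg.Agent.Prune
set_option linter.all false
prune_inst 0x7fbffffdfeacffffdfff7e3fffdbfffdf3e2cfffffdffbcbffe9ebbfffbf33a73fedfba59de0d0ffce77e6beb0b87853fb7eefffec6fdc7ffffdfff41ffbee4ff5f7b78971dc8cb40fbc2fff03f177ea6f3ffffffffffffffffffffffffffffffffffbfeffff
open scoped Cfsg.Agent.FastGrp

-- part: H769/IMC/R3Fix
section
/-!
# Fixed vectors of `p`-groups in the constituents of a rank 3 permutation character (helper769)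

`exists_chars` : the two nontrivial constituents of the permutation character of a rank 3 group with the values of
their characters; `fix_of` : a subgroup `P` has a fixed vector in the constituent of the eigenvalue `r` if
`n * m ≠ (k - s) * #P` for all integers `m`.
-/

set_option autoImplicit false
set_option linter.unusedSectionVars false

namespace Cfsg.Agent.H769.IMC.R3Fix

open Cfsg Cfsg.Agent.Characters.Core Cfsg.Agent.H690.Spor.RankThree Cfsg.Agent.H625.SylConst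
open scoped ComplexConjugate

variable {G X : Type*} [Group G] [MulAction G X] {R : X → X → Prop} {k l : ℕ}
variable [Fintype X] [DecidableEq X] [DecidableRel R]

open R3

/-- The constituents of a rank 3 permutation character, with their values. -/
theorem exists_chars [Finite G] (h : R3 G X R k l) {a b : ℕ} (hab : ∀ x y, ∑ z, adj R x z * adj R z y =
    (k - b : ℂ) * dia x y + (a - b : ℂ) * adj R x y + b) {r s : ℂ} (hrs : r ≠ s) (h1 : r + s = a - b)
    (h2 : r * s = b - k) :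
    ∃ χ₁ χ₂ : IrrCharacter G,
      (∀ g, (χ₁ : G → ℂ) g = ∑ x : X, ker R k (Nat.card X) r s x (g • x)) ∧
      (∀ g, (χ₂ : G → ℂ) g = ∑ x : X, ker R k (Nat.card X) s r x (g • x)) ∧
      (χ₁ : G → ℂ) 1 * (r - s) = -(s * (k + l) + k) ∧ (χ₂ : G → ℂ) 1 * (r - s) = r * (k + l) + k := by
  have := Fintype.ofFinite G
  have hp := h.params_eq hab
  have hn := h.cardn
  have hd0 : r - s ≠ 0 := sub_ne_zero.2 hrs
  have hchar : ∀ u v : ℂ, u ≠ v → u + v = a - b → u * v = b - k →
      IsCharacter G (fun g : G => ∑ x : X, ker R k (Nat.card X) u v x (g • x)) := by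
    intro u v huv h3 h4
    exact Cfsg.Agent.H651.isCharacter_sum_perm (MulAction.toPermHom G X) (ker R k (Nat.card X) u v)
      (h.ker_mul hab huv h3 h4) (fun g x y => h.ker_smul _ u v g x y)
  have hc1 := hchar r s hrs h1 h2
  have hc2 := hchar s r hrs.symm (by rw [add_comm]; exact h1) (by rw [mul_comm]; exact h2)
  set θ₁ : G → ℂ := fun g : G => ∑ x : X, ker R k (Nat.card X) r s x (g • x) with hθ₁
  set θ₂ : G → ℂ := fun g : G => ∑ x : X, ker R k (Nat.card X) s r x (g • x) with hθ₂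
  have hnC : (Nat.card X : ℂ) ≠ 0 := by
    have : Nat.card X ≠ 0 := by omega
    exact_mod_cast this
  have hval : ∀ u v : ℂ, ∀ g : G, ∑ x : X, ker R k (Nat.card X) u v x (g • x) =
      (u - v)⁻¹ * (∑ x : X, adj R x (g • x) - v * (Nat.card (MulAction.fixedBy X g) : ℂ) - (k - v)) := by
    intro u v g
    unfold ker
    rw [← Finset.mul_sum, Finset.sum_sub_distrib, Finset.sum_sub_distrib, ← Finset.mul_sum, sum_dia_smul,
      Finset.sum_const, Finset.card_univ, ← Nat.card_eq_fintype_card, nsmul_eq_mul]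
    congr 2
    field_simp
  have hsum : (fun g : G => (Nat.card (MulAction.fixedBy X g) : ℂ) - 1) = θ₁ + θ₂ := by
    funext g
    show _ = θ₁ g + θ₂ g
    rw [hθ₁, hθ₂]
    simp only [hval]
    have h3 : (s - r)⁻¹ = -(r - s)⁻¹ := by rw [← neg_sub, inv_neg]
    rw [h3]
    have h4 : (r - s)⁻¹ * (r - s) = 1 := inv_mul_cancel₀ hd0
    linear_combination (-(Nat.card (MulAction.fixedBy X g) : ℂ) + 1) * h4
  have hnorm := h.norm_two (G := G)
  rw [hsum, classInner_add_left, classInner_add_right, classInner_add_right] at hnorm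
  have hone : ∑ x : X, adj R x ((1 : G) • x) = 0 := by
    refine Finset.sum_eq_zero fun x _ => ?_
    unfold adj
    rw [one_smul, if_neg (h.irr x)]
  have hfix1 : Nat.card (MulAction.fixedBy X (1 : G)) = Nat.card X := by
    rw [MulAction.fixedBy_one_eq_univ]
    exact Nat.card_univ
  have hn' : (Nat.card X : ℂ) = 1 + k + l := by exact_mod_cast hn
  obtain ⟨d, hd⟩ : ∃ d : ℂ, d = r - s := ⟨_, rfl⟩
  have hd0' : d ≠ 0 := by rw [hd]; exact hd0
  have hdeg1 : θ₁ 1 * d = -(s * (k + l) + k) := by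
    rw [hθ₁]
    simp only [hval]
    rw [hone, hfix1, hn', ← hd]
    have h4 : d⁻¹ * d = 1 := inv_mul_cancel₀ hd0'
    linear_combination (0 - s * (1 + k + l) - (k - s)) * h4
  have hdeg2 : θ₂ 1 * d = r * (k + l) + k := by
    rw [hθ₂]
    simp only [hval]
    have h3 : (s - r)⁻¹ = -d⁻¹ := by rw [← neg_sub, inv_neg, ← hd]
    rw [hone, hfix1, hn', h3]
    have h4 : d⁻¹ * d = 1 := inv_mul_cancel₀ hd0'
    linear_combination (0 - (0 - r * (1 + k + l) - (k - r))) * h4
  have hpC : (k : ℂ) * k = k + k * a + l * b := by exact_mod_cast hp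
  have hk0 : (k : ℂ) ≠ 0 := by
    have := h.k0
    have h0 : k ≠ 0 := by omega
    exact_mod_cast h0
  have hl0 : (l : ℂ) ≠ 0 := by
    have := h.l0
    have h0 : l ≠ 0 := by omega
    exact_mod_cast h0
  have hprod : (θ₁ 1 * d) * (θ₂ 1 * d) = (1 + k + l) * k * l := by
    rw [hdeg1, hdeg2]
    linear_combination (-(k + l : ℂ) ^ 2) * h2 - (k : ℂ) * (k + l) * h1 + (k + l : ℂ) * hpC
  have hprod0 : ((1 : ℂ) + k + l) * k * l ≠ 0 := by
    rw [← hn']
    exact mul_ne_zero (mul_ne_zero hnC hk0) hl0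
  have hne1 : θ₁ 1 ≠ 0 := by
    intro h0
    rw [h0, zero_mul, zero_mul] at hprod
    exact hprod0 hprod.symm
  have hne2 : θ₂ 1 ≠ 0 := by
    intro h0
    rw [h0, zero_mul, mul_zero] at hprod
    exact hprod0 hprod.symm
  obtain ⟨m11, hm11⟩ := classInner_isNat hc1 hc1
  obtain ⟨m12, hm12⟩ := classInner_isNat hc1 hc2
  obtain ⟨m21, hm21⟩ := classInner_isNat hc2 hc1
  obtain ⟨m22, hm22⟩ := classInner_isNat hc2 hc2
  rw [hm11, hm12, hm21, hm22] at hnorm
  have hnormN : m11 + m12 + (m21 + m22) = 2 := by exact_mod_cast hnorm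
  have h11 : m11 ≠ 0 := by
    rintro rfl
    have h3 := classInner_self_eq_zero (φ := θ₁) (by rw [hm11]; simp)
    rw [h3] at hne1
    exact hne1 rfl
  have h22 : m22 ≠ 0 := by
    rintro rfl
    have h3 := classInner_self_eq_zero (φ := θ₂) (by rw [hm22]; simp)
    rw [h3] at hne2
    exact hne2 rfl
  have hm1 : m11 = 1 := by omega
  have hm2 : m22 = 1 := by omega
  have hi1 : IsIrrCharacter G θ₁ := isIrr_of_classInner_self hc1 (by rw [hm11, hm1]; simp)
  have hi2 : IsIrrCharacter G θ₂ := isIrr_of_classInner_self hc2 (by rw [hm22, hm2]; simp)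
  exact ⟨⟨θ₁, hi1⟩, ⟨θ₂, hi2⟩, fun g => rfl, fun g => rfl, by rw [← hd]; exact hdeg1, by rw [← hd]; exact hdeg2⟩

/-- A real symmetric invariant idempotent kernel gives a sum over `P` which is positive if one row sum is not zero. -/
theorem sum_pos_of_row {K : X → X → ℝ} (hid : ∀ x y, ∑ z, K x z * K z y = K x y) (hsymm : ∀ x y, K x y = K y x)
    (hinv : ∀ (g : G) x y, K (g • x) (g • y) = K x y) (P : Subgroup G) [Fintype P] (x : X)
    (hx : ∑ z : P, K x ((z : G) • x) ≠ 0) : ∑ z : P, ∑ y : X, K y ((z : G) • y) ≠ 0 := by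
  have hrow : ∀ y : X, 0 ≤ ∑ z : P, K y ((z : G) • y) := by
    intro y
    have h1 : ∑ w : X, (∑ z : P, K ((z : G) • y) w) ^ 2 = Fintype.card P * ∑ z : P, K y ((z : G) • y) := by
      have h2 : ∀ w : X, (∑ z : P, K ((z : G) • y) w) ^ 2 =
          ∑ u : P, ∑ v : P, K ((u : G) • y) w * K w ((v : G) • y) := by
        intro w
        rw [pow_two, Finset.sum_mul_sum]
        refine Finset.sum_congr rfl fun u _ => Finset.sum_congr rfl fun v _ => ?_
        rw [hsymm w]
      simp only [h2]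
      rw [Finset.sum_comm]
      have h3 : ∀ u : P, ∑ w : X, ∑ v : P, K ((u : G) • y) w * K w ((v : G) • y) =
          ∑ z : P, K y ((z : G) • y) := by
        intro u
        rw [Finset.sum_comm]
        have h4 : ∀ v : P, ∑ w : X, K ((u : G) • y) w * K w ((v : G) • y) = K y (((u⁻¹ * v : P) : G) • y) := by
          intro v
          rw [hid, ← hinv ((u : G)⁻¹), inv_smul_smul, smul_smul]
          rfl
        simp only [h4]
        exact Fintype.sum_equiv (Equiv.mulLeft u⁻¹) _ _ fun v => rfl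
      rw [Finset.sum_congr rfl fun u _ => h3 u, Finset.sum_const, Finset.card_univ, nsmul_eq_mul]
    have h5 : (0 : ℝ) < Fintype.card P := by exact_mod_cast Fintype.card_pos
    have h6 : (0 : ℝ) ≤ Fintype.card P * ∑ z : P, K y ((z : G) • y) := by
      rw [← h1]
      exact Finset.sum_nonneg fun w _ => sq_nonneg _
    exact nonneg_of_mul_nonneg_right h6 h5
  rw [Finset.sum_comm]
  exact (Finset.sum_pos' (fun y _ => hrow y) ⟨x, Finset.mem_univ _, lt_of_le_of_ne (hrow x) hx.symm⟩).ne'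

/-- **Fixed vectors.** -/
theorem fix_of [Finite G] (h : R3 G X R k l) {a b : ℕ} (hab : ∀ x y, ∑ z, adj R x z * adj R z y =
    (k - b : ℂ) * dia x y + (a - b : ℂ) * adj R x y + b) {r s : ℤ} (hrs : r ≠ s) (h1 : r + s = a - b)
    (h2 : r * s = b - k) {χ : IrrCharacter G}
    (hχ : ∀ g, (χ : G → ℂ) g = ∑ x : X, ker R k (Nat.card X) (r : ℂ) (s : ℂ) x (g • x)) (P : Subgroup G)
    (hP : ∀ m : ℤ, (Nat.card X : ℤ) * m ≠ (k - s) * Nat.card P) : _root_.Cfsg.Agent.H625.SylConst.Fix P (χ : G → ℂ) := by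
  have := Fintype.ofFinite G
  have := Fintype.ofFinite P
  have hn := h.cardn
  have hn0 : Nat.card X ≠ 0 := by omega
  have hne : Nonempty X := by
    rw [← Finite.card_pos_iff]
    omega
  obtain ⟨x0⟩ := hne
  rw [fix_iff]
  obtain ⟨K, hK⟩ : ∃ K : X → X → ℝ, ∀ x y, K x y =
      ((r : ℝ) - s)⁻¹ * ((if R x y then 1 else 0) - s * (if x = y then 1 else 0) - (k - s) * (Nat.card X : ℝ)⁻¹) :=
    ⟨_, fun x y => rfl⟩
  have hKC : ∀ x y, ((K x y : ℝ) : ℂ) = ker R k (Nat.card X) (r : ℂ) (s : ℂ) x y := by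
    intro x y
    rw [hK]
    unfold ker adj dia
    by_cases h3 : R x y
    · by_cases h4 : x = y
      · rw [if_pos h3, if_pos h4, if_pos h3, if_pos h4]
        push_cast
        ring
      · rw [if_pos h3, if_neg h4, if_pos h3, if_neg h4]
        push_cast
        ring
    · by_cases h4 : x = y
      · rw [if_neg h3, if_pos h4, if_neg h3, if_pos h4]
        push_cast
        ring
      · rw [if_neg h3, if_neg h4, if_neg h3, if_neg h4]
        push_cast
        ring
  have hrs' : (r : ℂ) ≠ s := by exact_mod_cast hrs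
  have hid : ∀ x y, ∑ z, K x z * K z y = K x y := by
    intro x y
    have h3 := h.ker_mul hab hrs' (by exact_mod_cast h1) (by exact_mod_cast h2) x y
    simp only [← hKC] at h3
    exact_mod_cast h3
  have hsymm : ∀ x y, K x y = K y x := by
    intro x y
    rw [hK, hK]
    have h3 : R x y ↔ R y x := ⟨h.symm x y, h.symm y x⟩
    have h4 : x = y ↔ y = x := eq_comm
    simp only [h3, h4]
  have hinv : ∀ (g : G) x y, K (g • x) (g • y) = K x y := by
    intro g x y
    have h3 := h.ker_smul (Nat.card X) (r : ℂ) (s : ℂ) g x y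
    rw [← hKC, ← hKC] at h3
    exact_mod_cast h3
  have key : ∑ z : P, ∑ y : X, K y ((z : G) • y) ≠ 0 := by
    refine sum_pos_of_row hid hsymm hinv P x0 fun h3 => ?_
    have hd0 : ((r : ℝ) - s) ≠ 0 := sub_ne_zero.2 (by exact_mod_cast hrs)
    simp only [hK] at h3
    rw [← Finset.mul_sum] at h3
    have h4 := (mul_eq_zero.1 h3).resolve_left (inv_ne_zero hd0)
    rw [Finset.sum_sub_distrib, Finset.sum_sub_distrib, ← Finset.mul_sum, Finset.sum_boole, Finset.sum_boole,
      Finset.sum_const, Finset.card_univ, nsmul_eq_mul] at h4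
    have hnR : (Nat.card X : ℝ) ≠ 0 := by exact_mod_cast hn0
    have h5 : (Nat.card X : ℝ) * (((Finset.univ.filter fun z : P => R x0 ((z : G) • x0)).card : ℝ) -
        s * ((Finset.univ.filter fun z : P => x0 = (z : G) • x0).card : ℝ)) = (k - s) * (Fintype.card P : ℝ) := by
      field_simp at h4
      linarith only [h4]
    apply hP (((Finset.univ.filter fun z : P => R x0 ((z : G) • x0)).card : ℤ) -
        s * ((Finset.univ.filter fun z : P => x0 = (z : G) • x0).card : ℤ))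
    rw [Nat.card_eq_fintype_card (α := P)]
    exact_mod_cast h5
  intro h3
  apply key
  simp only [hχ, ← hKC] at h3
  exact_mod_cast h3

end Cfsg.Agent.H769.IMC.R3Fix
end

-- part: H769/IMC/RowCoTwo
section
/-!
# The row `Co2` of S4526 (helper769, task 3143)

* `p = 2, 5` : the characters of degrees `2024`, `275` of the rank 3 action on the 2300 pairs (eigenvalues `-9`, `63`):
  every subgroup of order not divisible by `25` (resp. `23`) has a fixed vector (`R3Fix.fix_of`);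
* `p = 3` : the constituent `2277` of the permutation character on the 4600 vectors;
* `p = 7, 11, 23` : the Itô-Michler row.
-/

set_option autoImplicit false

namespace Cfsg.Agent.H769.IMC.RowCoTwo

open Cfsg Cfsg.Agent.H33 Cfsg.Agent.H672.SporIM Cfsg.Agent.H843.IMC Cfsg.Agent.H843.IMC.Co2B MulAction
  Cfsg.Agent.H625.SylConst Cfsg.Agent.H794.Imc Cfsg.Agent.H690.Spor.RankThree Cfsg.Agent.Characters.Core
open Cfsg.Agent.SporadicStructure.Co2RankThree
open Cfsg.Agent.H713.Spor.RankThree (pc inner_pc_one inner_pc_self pc_one inner_ne)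

universe u

/-! ### the parameters of the rank 3 graph -/

/-- The characters of the rank 3 action and the eigenvalues. -/
theorem exists_rs : ∃ (R' : Y → Y → Prop) (_ : DecidableRel R') (_ : Fintype Y) (_ : DecidableEq Y) (a b : ℕ),
    R3 Spor.Co2 Y R' 891 1408 ∧ (∀ x y : Y, ∑ z, R3.adj R' x z * R3.adj R' z y =
    (891 - b : ℂ) * R3.dia x y + (a - b : ℂ) * R3.adj R' x y + b) ∧ a = 378 ∧ b = 324 := by
  classical
  have := Fintype.ofFinite Y
  have hf : Finite Spor.Co2 := inferInstance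
  obtain ⟨a, b, hab⟩ := r3.exists_params
  refine ⟨R, inferInstance, inferInstance, inferInstance, a, b, r3, by exact_mod_cast hab, ?_⟩
  have hp := r3.params_eq hab
  -- the eigenvalues
  obtain ⟨d, hd⟩ : ∃ d : ℂ, d * d = (((a : ℤ) - b) ^ 2 + 4 * (891 - b) : ℤ) := by
    obtain ⟨d, hd⟩ := IsAlgClosed.exists_pow_nat_eq ((((a : ℤ) - b) ^ 2 + 4 * (891 - b) : ℤ) : ℂ) (n := 2)
      (by norm_num)
    exact ⟨d, by rw [← hd]; ring⟩
  have hb : b ≤ 626 := Nat.le_of_lt_succ (Nat.lt_of_mul_lt_mul_left (a := 1408) (by linarith only [hp, Nat.zero_le a]))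
  have hd0 : d ≠ 0 := by
    rintro rfl
    have h1 : ((((a : ℤ) - b) ^ 2 + 4 * (891 - b) : ℤ) : ℂ) = 0 := by rw [← hd]; ring
    have h2 : ((a : ℤ) - b) ^ 2 + 4 * (891 - b) = 0 := by exact_mod_cast h1
    linarith only [hp, h2, sq_nonneg ((a : ℤ) - b)]
  push_cast at hd
  set r : ℂ := (((a : ℂ) - b) + d) / 2 with hr
  set s : ℂ := (((a : ℂ) - b) - d) / 2 with hs
  have hrs : r - s = d := by rw [hr, hs]; ring
  have h1 : r + s = a - b := by rw [hr, hs]; ring
  have h2 : r * s = b - (891 : ℕ) := by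
    have h3 : r * s = (((a : ℂ) - b) ^ 2 - d * d) / 4 := by rw [hr, hs]; ring
    rw [h3, hd]
    push_cast
    ring
  obtain ⟨χ₁, χ₂, -, -, h3, h4⟩ := R3Fix.exists_chars r3 hab (r := r) (s := s)
    (sub_ne_zero.1 (by rw [hrs]; exact hd0)) h1 h2
  obtain ⟨f, -, hf⟩ := isIrr_apply_one χ₁.2
  obtain ⟨g, -, hg⟩ := isIrr_apply_one χ₂.2
  rw [hf, hrs] at h3
  rw [hg, hrs] at h4
  push_cast at h3 h4
  have hfg : (f : ℂ) + g = 2299 := by
    apply mul_right_cancel₀ hd0
    linear_combination h3 + h4 + (2299 : ℂ) * hrs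
  have hfgN : f + g = 2299 := by exact_mod_cast hfg
  have hsub : ((f : ℂ) - g) * d = -(((a : ℂ) - b) * 2299 + 1782) := by
    linear_combination h3 - h4 - (2299 : ℂ) * h1
  have hsq : ((f : ℤ) - g) ^ 2 * (((a : ℤ) - b) ^ 2 + 4 * (891 - b)) = (((a : ℤ) - b) * 2299 + 1782) ^ 2 := by
    have h5 : ((f : ℂ) - g) ^ 2 * (((a : ℂ) - b) ^ 2 + 4 * (891 - b)) = (((a : ℂ) - b) * 2299 + 1782) ^ 2 := by
      have h6 : (((f : ℂ) - g) * d) ^ 2 = (((a : ℂ) - b) * 2299 + 1782) ^ 2 := by rw [hsub]; ring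
      rw [← h6]
      linear_combination (-((f : ℂ) - g) ^ 2) * hd
    exact_mod_cast h5
  -- arithmetic
  obtain ⟨j, hj⟩ : ∃ j, b = 81 * j := by
    have h5 : 81 ∣ 128 * b :=
      (Nat.dvd_add_right (Nat.dvd_mul_right 81 (a + 1))).1 ⟨891, Nat.eq_of_mul_eq_mul_left (by norm_num : 0 < 11) (by linarith only [hp])⟩
    exact (Nat.Coprime.dvd_of_dvd_mul_left (by norm_num) h5)
  have hp' : a + 128 * j = 890 := Nat.eq_of_mul_eq_mul_left (by norm_num : 0 < 891) (by linarith only [hp, hj])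
  have hj6 : j ≤ 7 := by clear * - hj hb; omega
  have hne : ((f : ℤ) - g) ≠ 0 := by clear * - hfgN; omega
  have hdvd : ((f : ℤ) - g) ∣ (((a : ℤ) - b) * 2299 + 1782) := by
    have h9 : ((f : ℤ) - g) ^ 2 ∣ (((a : ℤ) - b) * 2299 + 1782) ^ 2 := ⟨_, hsq.symm⟩
    exact (Int.pow_dvd_pow_iff (by norm_num)).1 h9
  obtain ⟨c, hc⟩ := hdvd
  rw [hc, mul_pow] at hsq
  have h10 : ((a : ℤ) - b) ^ 2 + 4 * (891 - b) = c ^ 2 := mul_left_cancel₀ (pow_ne_zero 2 hne) hsq
  have hc2 : c ^ 2 = (c.natAbs : ℤ) ^ 2 := (Int.natAbs_sq c).symm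
  have nosq : ∀ (m v : ℕ) (N : ℤ), N = c ^ 2 → (m : ℤ) ^ 2 < N → N < ((m + 1 : ℕ) : ℤ) ^ 2 → False := by
    intro m v N hN h5 h6
    rw [hN, hc2] at h5 h6
    clear * - h5 h6
    have h7 : m < c.natAbs := by
      have := abs_lt_of_sq_lt_sq h5 (by (clear * -; positivity))
      have h8 : (m : ℤ) < (c.natAbs : ℤ) := by
        have h9 := abs_of_nonneg (show (0 : ℤ) ≤ m by (clear * -; positivity))
        omega
      exact_mod_cast h8
    have h8 : c.natAbs < m + 1 := by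
      have := abs_lt_of_sq_lt_sq h6 (by positivity)
      have h8 : (c.natAbs : ℤ) < ((m + 1 : ℕ) : ℤ) := by
        have h9 := abs_of_nonneg (show (0 : ℤ) ≤ (c.natAbs : ℤ) by (clear * -; positivity))
        omega
      exact_mod_cast h8
    omega
  interval_cases j
  · -- b = 0
    exfalso
    have ha : a = 890 := by clear * - hp'; omega
    subst hj ha
    have h5 : c ^ 2 = 892 ^ 2 := by rw [← h10]; norm_num
    have h6 : c = 892 ∨ c = -892 := sq_eq_sq_iff_eq_or_eq_neg.1 h5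
    rcases h6 with rfl | rfl <;> push_cast at hc <;> (clear * - hc hfgN; omega)
  · exfalso
    have ha : a = 762 := by clear * - hp'; omega
    subst hj ha
    exact nosq 683 0 467001 (by rw [← h10]; norm_num) (by norm_num) (by norm_num)
  · exfalso
    have ha : a = 634 := by clear * - hp'; omega
    subst hj ha
    exact nosq 475 0 225700 (by rw [← h10]; norm_num) (by norm_num) (by norm_num)
  · exfalso
    have ha : a = 506 := by clear * - hp'; omega
    subst hj ha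
    exact nosq 267 0 71761 (by rw [← h10]; norm_num) (by norm_num) (by norm_num)
  · exact ⟨by clear * - hp'; omega, hj⟩
  · exfalso
    have ha : a = 250 := by clear * - hp'; omega
    subst hj ha
    exact nosq 161 0 25969 (by rw [← h10]; norm_num) (by norm_num) (by norm_num)
  · exfalso
    have ha : a = 122 := by clear * - hp'; omega
    subst hj ha
    exact nosq 366 0 134116 (by rw [← h10]; norm_num) (by norm_num) (by norm_num)
  · exfalso
    clear * - hp'
    omega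

/-- The characters of degrees 2024 and 275 and their fixed vectors. -/
theorem exists_fix : ∃ χ₁ χ₂ : IrrCharacter Spor.Co2, charDegree (χ₁ : Spor.Co2 → ℂ) = 2024 ∧
    charDegree (χ₂ : Spor.Co2 → ℂ) = 275 ∧
    (∀ P : Subgroup Spor.Co2, ¬ 25 ∣ Nat.card P → _root_.Cfsg.Agent.H625.SylConst.Fix P (χ₁ : Spor.Co2 → ℂ)) ∧
    (∀ P : Subgroup Spor.Co2, ¬ 23 ∣ Nat.card P → _root_.Cfsg.Agent.H625.SylConst.Fix P (χ₂ : Spor.Co2 → ℂ)) := by
  obtain ⟨R', i1, i2, i3, a, b, h, hab, rfl, rfl⟩ := exists_rs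
  have hab' : ∀ x y : Y, ∑ z, R3.adj R' x z * R3.adj R' z y =
      ((891 : ℕ) - (324 : ℕ) : ℂ) * R3.dia x y + ((378 : ℕ) - (324 : ℕ) : ℂ) * R3.adj R' x y + (324 : ℕ) := by
    intro x y
    rw [hab x y]
    push_cast
    ring
  have hf : Finite Spor.Co2 := inferInstance
  obtain ⟨χ₁, χ₂, h1, h2, h3, h4⟩ := R3Fix.exists_chars h hab' (r := ((-9 : ℤ) : ℂ)) (s := ((63 : ℤ) : ℂ))
    (by norm_num) (by norm_num) (by norm_num)
  have hn : Nat.card Y = 2300 := card_Y
  refine ⟨χ₁, χ₂, ?_, ?_, fun P hP => ?_, fun P hP => ?_⟩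
  · refine Cfsg.Agent.Blocks.Basic.charDegree_of_eq ?_
    push_cast at h3 ⊢
    linear_combination (-1 / 72 : ℂ) * h3
  · refine Cfsg.Agent.Blocks.Basic.charDegree_of_eq ?_
    push_cast at h4 ⊢
    linear_combination (-1 / 72 : ℂ) * h4
  · refine R3Fix.fix_of h hab' (r := -9) (s := 63) (by norm_num) (by norm_num) (by norm_num) h1 P fun m hm => ?_
    rw [hn] at hm
    apply hP
    push_cast at hm
    omega
  · refine R3Fix.fix_of h hab' (r := 63) (s := -9) (by norm_num) (by norm_num) (by norm_num) h2 P fun m hm => ?_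
    rw [hn] at hm
    apply hP
    push_cast at hm
    omega

theorem imc_of_fix {p : ℕ} [hp : Fact p.Prime] {G : Type*} [Group G] [Finite G] (χ : IrrCharacter G)
    (hd : p ∣ charDegree (χ : G → ℂ)) {q : ℕ} (hq : ¬ q ∣ p ^ (Nat.card G).factorization p)
    (h : ∀ P : Subgroup G, ¬ q ∣ Nat.card P → _root_.Cfsg.Agent.H625.SylConst.Fix P (χ : G → ℂ)) : IMC p G := by
  obtain ⟨P⟩ : Nonempty (Sylow p G) := inferInstance
  exact ⟨χ, P, hd, h _ (by rw [P.card_eq_multiplicity]; exact hq)⟩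

theorem imc2 : IMC 2 Spor.Co2 := by
  have hp : Fact (Nat.Prime 2) := ⟨Nat.prime_two⟩
  obtain ⟨χ₁, χ₂, h1, -, h3, -⟩ := exists_fix
  refine imc_of_fix χ₁ (by rw [h1]; norm_num) (q := 25) (fun h => ?_) h3
  have h4 : Nat.Coprime 25 (2 ^ (Nat.card Spor.Co2).factorization 2) := Nat.Coprime.pow_right _ (by norm_num)
  have := Nat.Coprime.eq_one_of_dvd h4 h
  omega

theorem imc5 : IMC 5 Spor.Co2 := by
  have hp : Fact (Nat.Prime 5) := ⟨Nat.prime_five⟩
  obtain ⟨χ₁, χ₂, -, h2, -, h4⟩ := exists_fix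
  refine imc_of_fix χ₂ (by rw [h2]; norm_num) (q := 23) (fun h => ?_) h4
  have h4 : Nat.Coprime 23 (5 ^ (Nat.card Spor.Co2).factorization 5) := Nat.Coprime.pow_right _ (by norm_num)
  have := Nat.Coprime.eq_one_of_dvd h4 h
  omega

/-! ### `p = 3` -/

theorem exists_2277 [Fintype Spor.Co2] : ∃ χ : IrrCharacter Spor.Co2, charDegree (χ : Spor.Co2 → ℂ) = 2277 ∧
    classInner (pc Spor.Co2 X) (χ : Spor.Co2 → ℂ) ≠ 0 := by
  classical
  have := Fintype.ofFinite Y
  have hne : Nonempty X := ⟨⟨y1, y1_mem_A⟩⟩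
  have hne' : Nonempty Y := ⟨mk ⟨y1, y1_mem_A⟩⟩
  obtain ⟨χ₁, χ₂, h1, h2, h3⟩ := Co2A.of_R3 Co2A.card_co2 r3
  obtain ⟨μ, hμ⟩ := Co2A.exists_mu
  have hμ23 : charDegree (μ : Spor.Co2 → ℂ) = 23 := by
    obtain ⟨μ', h'⟩ := Co2A.hasDeg_23
    have h4 := hμ 1
    have h6 : Cfsg.Agent.H419.LeechIrr.lchi Cfsg.Agent.H419.Spor.Co2.inc 1 = 24 := by
      rw [Cfsg.Agent.H419.LeechIrr.lchi, map_one, Cfsg.Agent.SigZeroCo2.Lin.tr8_one]
      norm_num
    rw [h6, Cfsg.Agent.Blocks.Basic.irr_one_eq_charDegree μ.2] at h4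
    have : (24 : ℂ) = ((1 + charDegree (μ : Spor.Co2 → ℂ) : ℕ) : ℂ) := by rw [h4]; push_cast; ring
    have h9 : 24 = 1 + charDegree (μ : Spor.Co2 → ℂ) := by exact_mod_cast this
    omega
  have ne_of_deg : ∀ {α β : IrrCharacter Spor.Co2}, charDegree (α : Spor.Co2 → ℂ) ≠ charDegree (β : Spor.Co2 → ℂ) →
      (α : Spor.Co2 → ℂ) ≠ β := by
    intro α β h hcon
    exact h (by rw [hcon])
  have hone : charDegree (1 : Spor.Co2 → ℂ) = 1 := by
    unfold charDegree
    simp
  have hμ1 : (μ : Spor.Co2 → ℂ) ≠ 1 := by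
    intro h
    rw [h, hone] at hμ23
    omega
  have hχ1 : (χ₁ : Spor.Co2 → ℂ) ≠ 1 := by
    intro h
    rw [h, hone] at h1
    omega
  have hχ2 : (χ₂ : Spor.Co2 → ℂ) ≠ 1 := by
    intro h
    rw [h, hone] at h2
    omega
  have h12 : (χ₁ : Spor.Co2 → ℂ) ≠ χ₂ := ne_of_deg (by rw [h1, h2]; norm_num)
  have h1μ : (χ₁ : Spor.Co2 → ℂ) ≠ μ := ne_of_deg (by rw [h1, hμ23]; norm_num)
  have h2μ : (χ₂ : Spor.Co2 → ℂ) ≠ μ := ne_of_deg (by rw [h2, hμ23]; norm_num)
  -- the permutation character of the pairs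
  have hY : pc Spor.Co2 Y = 1 + (χ₁ : Spor.Co2 → ℂ) + (χ₂ : Spor.Co2 → ℂ) := by
    funext g
    exact h3 g
  have hYY : classInner (pc Spor.Co2 Y) (pc Spor.Co2 Y) = 3 := by
    rw [hY]
    simp only [classInner_add_left, classInner_add_right]
    rw [classInner_irr_self isIrr_one, classInner_irr_self χ₁.2, classInner_irr_self χ₂.2,
      classInner_irr_ne isIrr_one χ₁.2 hχ1.symm, classInner_irr_ne isIrr_one χ₂.2 hχ2.symm,
      classInner_irr_ne χ₁.2 isIrr_one hχ1, classInner_irr_ne χ₂.2 isIrr_one hχ2,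
      classInner_irr_ne χ₁.2 χ₂.2 h12, classInner_irr_ne χ₂.2 χ₁.2 h12.symm]
    norm_num
  have hYμ : classInner (pc Spor.Co2 Y) (μ : Spor.Co2 → ℂ) = 0 := by
    rw [hY]
    simp only [classInner_add_left]
    rw [classInner_irr_ne isIrr_one μ.2 hμ1.symm, classInner_irr_ne χ₁.2 μ.2 h1μ, classInner_irr_ne χ₂.2 μ.2 h2μ]
    norm_num
  have hμY : classInner (μ : Spor.Co2 → ℂ) (pc Spor.Co2 Y) = 0 := by
    rw [← classInner_conj_symm, hYμ, map_zero]
  -- the numbers of orbits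
  obtain ⟨N1, hN1⟩ : ∃ n : ℕ, n = Nat.card (Quotient (orbitRel Spor.Co2 (X × X))) := ⟨_, rfl⟩
  obtain ⟨N2, hN2⟩ : ∃ n : ℕ, n = Nat.card (Quotient (orbitRel Spor.Co2 (X × Y))) := ⟨_, rfl⟩
  have hN1' : N1 ≤ 5 := by rw [hN1]; exact _root_.Cfsg.Agent.H843.IMC.Co2B.rank_le
  have hN3 : Nat.card (Quotient (orbitRel Spor.Co2 (Y × Y))) = 3 := by
    have h4 := inner_pc_self (G := Spor.Co2) Y
    rw [hYY] at h4
    exact_mod_cast h4.symm
  have hN2' : 3 ≤ N2 := by rw [hN2, ← hN3]; exact rank_mono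
  have hXX : classInner (pc Spor.Co2 X) (pc Spor.Co2 X) = N1 := by rw [hN1]; exact inner_pc_self X
  have hXY : classInner (pc Spor.Co2 X) (pc Spor.Co2 Y) = N2 := by rw [hN2]; exact inner_pc_pc X Y
  have hYX : classInner (pc Spor.Co2 Y) (pc Spor.Co2 X) = N2 := by
    rw [← classInner_conj_symm, hXY, Complex.conj_natCast]
  -- the character of degree 23
  have hXμ : classInner (pc Spor.Co2 X) (μ : Spor.Co2 → ℂ) ≠ 0 := by
    refine inner_ne Cfsg.Agent.H419.Spor.Co2.inc μ hμ1 (d := 1) (fun g => by rw [hμ g]; norm_num) X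
      (fun x => Cfsg.Agent.H419.Spor.Co2.c • x.1) ?_ ?_
    · intro γ x
      show Cfsg.Agent.H419.Spor.Co2.c • (toCo0 γ • x.1) =
        (Cfsg.Agent.H419.Spor.Co2.c * toCo0 γ * Cfsg.Agent.H419.Spor.Co2.c⁻¹) • Cfsg.Agent.H419.Spor.Co2.c • x.1
      rw [mul_smul, mul_smul, inv_smul_smul]
    · intro x
      obtain ⟨γ, hγ⟩ := exists_smul x (op x)
      refine ⟨γ, fun hcon => op_ne x ?_⟩
      rw [← hγ]
      apply Subtype.ext
      have h4 : Cfsg.Agent.H419.Spor.Co2.inc γ • Cfsg.Agent.H419.Spor.Co2.c • x.1 =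
          Cfsg.Agent.H419.Spor.Co2.c • (toCo0 γ • x.1) := by
        show (Cfsg.Agent.H419.Spor.Co2.c * toCo0 γ * Cfsg.Agent.H419.Spor.Co2.c⁻¹) • Cfsg.Agent.H419.Spor.Co2.c • x.1 = _
        rw [mul_smul, mul_smul, inv_smul_smul]
      rw [h4] at hcon
      exact MulAction.injective Cfsg.Agent.H419.Spor.Co2.c hcon
  obtain ⟨m, hm⟩ := classInner_isNat (Cfsg.Agent.S0157.isCharacter_fixedBy (G := Spor.Co2) X) (isIrr_isCharacter μ.2)
  change classInner (pc Spor.Co2 X) μ = m at hm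
  have hm0 : m ≠ 0 := by
    rintro rfl
    exact hXμ (by rw [hm]; norm_num)
  have hm' : classInner (μ : Spor.Co2 → ℂ) (pc Spor.Co2 X) = m := by
    rw [← classInner_conj_symm, hm, Complex.conj_natCast]
  -- the difference
  set ψ : Spor.Co2 → ℂ := pc Spor.Co2 X - (pc Spor.Co2 Y + (μ : Spor.Co2 → ℂ)) with hψ
  have hgen : IsGeneralizedCharacter Spor.Co2 ψ := by
    rw [isGeneralizedCharacter_def]
    exact ⟨_, _, Cfsg.Agent.S0157.isCharacter_fixedBy X,
      isCharacter_add (Cfsg.Agent.S0157.isCharacter_fixedBy Y) (isIrr_isCharacter μ.2), rfl⟩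
  have hval : ψ 1 = 2277 := by
    rw [hψ, Pi.sub_apply, Pi.add_apply, pc_one, pc_one, card_X, card_Y,
      Cfsg.Agent.Blocks.Basic.irr_one_eq_charDegree μ.2, hμ23]
    norm_num
  have hnorm : classInner ψ ψ = (((N1 : ℤ) - 2 * N2 + 4 - 2 * m : ℤ) : ℂ) := by
    rw [hψ]
    simp only [classInner_sub_left, classInner_sub_right, classInner_add_left, classInner_add_right]
    rw [hXX, hXY, hYX, hYY, hm, hm', hYμ, hμY, classInner_irr_self μ.2]
    push_cast
    ring
  have hpos : ψ ≠ 0 := by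
    intro h
    rw [h, Pi.zero_apply] at hval
    norm_num at hval
  have hnonneg : 0 < (N1 : ℤ) - 2 * N2 + 4 - 2 * m := by
    have h4 := classInner_self_eq_ofReal ψ
    rw [hnorm] at h4
    have h5 : (((N1 : ℤ) - 2 * N2 + 4 - 2 * m : ℤ) : ℝ) =
        (Nat.card Spor.Co2 : ℝ)⁻¹ * ∑ g : Spor.Co2, Complex.normSq (ψ g) := by exact_mod_cast h4
    have h6 : (0 : ℝ) ≤ (((N1 : ℤ) - 2 * N2 + 4 - 2 * m : ℤ) : ℝ) := by
      rw [h5]
      exact mul_nonneg (by (clear * -; positivity)) (Finset.sum_nonneg fun _ _ => Complex.normSq_nonneg _)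
    have h7 : (0 : ℤ) ≤ (N1 : ℤ) - 2 * N2 + 4 - 2 * m := by exact_mod_cast h6
    refine lt_of_le_of_ne h7 fun h8 => hpos ?_
    apply classInner_self_eq_zero
    rw [hnorm, ← h8]
    norm_num
  have hone' : (N1 : ℤ) - 2 * N2 + 4 - 2 * m = 1 := by omega
  rw [hone'] at hnorm
  rcases isIrr_of_generalized hgen (by rw [hnorm]; norm_num) with h | h
  · refine ⟨⟨ψ, h⟩, ?_, ?_⟩
    · exact Cfsg.Agent.H670.PSing.charDegree_eq_of (by show ψ 1 = _; rw [hval]; norm_num)
    · have h4 : classInner (pc Spor.Co2 X) ψ = ((N1 - (N2 + m) : ℤ) : ℂ) := by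
        rw [hψ]
        simp only [classInner_sub_right, classInner_add_right]
        rw [hXX, hXY, hm]
        push_cast
        ring
      show classInner (pc Spor.Co2 X) ψ ≠ 0
      rw [h4]
      have h5 : (N1 - (N2 + m) : ℤ) ≠ 0 := by omega
      exact_mod_cast h5
  · exfalso
    obtain ⟨n, hn, hn'⟩ := isIrr_apply_one h
    rw [Pi.neg_apply, hval] at hn'
    have h4 : ((n : ℤ) : ℂ) + ((2277 : ℤ) : ℂ) = 0 := by
      push_cast
      rw [← hn']
      ring
    have h5 : (n : ℤ) + 2277 = 0 := by exact_mod_cast h4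
    omega

theorem imc3 : IMC 3 Spor.Co2 := by
  have hp : Fact (Nat.Prime 3) := ⟨Nat.prime_three⟩
  have := Fintype.ofFinite Spor.Co2
  obtain ⟨χ, h1, h2⟩ := exists_2277
  exact Cfsg.Agent.H94.IMCPerm.imc_of_perm (X := X) (by rw [card_X]; norm_num) χ (by rw [h1]; norm_num) h2

/-- **S4526 for `Co2`.** -/
theorem imc_co2 {S : Type u} [Group S] [Finite S] (h : Cfsg.Spor.IsoCo2 S) {p : ℕ} [hp : Fact p.Prime]
    (hd : p ∣ Nat.card S) : IMC p S := by
  have him := Rows.im_co2 h hd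
  obtain ⟨e⟩ := h
  have hcard : Nat.card S = 42305421312000 := by rw [Nat.card_congr e.toEquiv, Co2A.card_co2]
  by_cases hp2 : p = 2
  · subst hp2
    exact IMC.of_equiv e imc2
  by_cases hp3 : p = 3
  · subst hp3
    exact IMC.of_equiv e imc3
  by_cases hp5 : p = 5
  · subst hp5
    exact IMC.of_equiv e imc5
  refine imc_of_exact hd (fun h2 => ?_) him
  rw [hcard] at h2
  have hpr := hp.out
  have h5 : p * p ∣ (2 ^ 18 * 3 ^ 6 * 5 ^ 3) * (7 * 11 * 23) := by
    rw [← pow_two]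
    norm_num
    exact h2
  have hc : Nat.Coprime (p * p) (2 ^ 18 * 3 ^ 6 * 5 ^ 3) := by
    have h6 : Nat.Coprime p (2 ^ 18 * 3 ^ 6 * 5 ^ 3) := by
      refine Nat.Coprime.mul_right (Nat.Coprime.mul_right ?_ ?_) ?_
      · exact Nat.Coprime.pow_right _ ((Nat.coprime_primes hpr Nat.prime_two).2 hp2)
      · exact Nat.Coprime.pow_right _ ((Nat.coprime_primes hpr Nat.prime_three).2 hp3)
      · exact Nat.Coprime.pow_right _ ((Nat.coprime_primes hpr Nat.prime_five).2 hp5)
    exact h6.mul_left h6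
  have h7 : p * p ∣ 7 * 11 * 23 := hc.dvd_of_dvd_mul_left h5
  have h8 : Squarefree (7 * 11 * 23) := by
    rw [Nat.squarefree_iff_minSqFac]
    norm_num
    decide +kernel
  exact hpr.one_lt.ne' (Nat.isUnit_iff.1 (h8 p h7))

end Cfsg.Agent.H769.IMC.RowCoTwo
end
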